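import Cfsg.Agent.Lib.KnownB.Mult.Main

/-!
Checked stabiliser chains on codes: every element generated by the first list of generators is a product
of one representative from each level and an element of the last, listed, subgroup.
-/

set_option autoImplicit false

namespace CfsgLib.KnownB.Sp62

open CfsgLib.KnownB.Mult

/-- a level: generators, representatives (word, code, inverse code), words for the next generators -/
structure Lvl (C : Type) where
  b : ℕ
  gens : List C
  trans : List ((List ℕ × C) × (List ℕ × C))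
  next : List (List ℕ)

variable {Q : Type} [Group Q] {C : Type} (K : Code Q C) (pt : ℕ → C → ℕ) (fin finG : List C)

/-- evaluation of a word -/
def evL (gens : List C) : List ℕ → C
  | [] => K.one
  | k :: w => K.mul (gens.getD k K.one) (evL gens w)

/-- membership test -/
def sift : List (Lvl C) → C → Bool
  | [], x => fin.any (K.eqc x)
  | L :: r, x =>
    match L.trans.find? fun t => Nat.beq (pt L.b t.1.2) (pt L.b x) with
    | none => false
    | some t => sift r (K.mul t.2.2 x)

/-- the generators at the head -/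
def ngens : List (Lvl C) → List C
  | [] => finG
  | L :: _ => L.gens

/-- all checks -/
def chainOK : List (Lvl C) → Bool
  | [] => fin.any (K.eqc K.one) && (fin.all fun f => finG.all fun g => fin.any (K.eqc (K.mul g f))) &&
      fin.all fun f => K.eqc f K.one || finG.any (K.eqc f)
  | L :: r =>
    (L.trans.all fun t => K.eqc (evL K L.gens t.1.1) t.1.2 && K.eqc (evL K L.gens t.2.1) t.2.2 &&
        K.eqc (K.mul t.2.2 t.1.2) K.one) &&
      (L.trans.any fun t => K.eqc K.one t.1.2) &&
      ((ngens finG r).all fun g => L.next.any fun w => K.eqc (evL K L.gens w) g) &&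
      (L.gens.all fun g => L.trans.all fun t => sift K pt fin (L :: r) (K.mul g t.1.2)) &&
      chainOK r

/-- codes with elements -/
def Has (l : List C) : Prop := ∀ x ∈ l, ∃ a, K.rep a x

/-- equal codes have the same elements -/
def Respects : Prop := ∀ a x y, K.rep a x → K.eqc x y = true → K.rep a y

/-- the group generated by a list of codes -/
def hof (l : List C) : Subgroup Q := Subgroup.closure {a | ∃ x ∈ l, K.rep a x}

/-- the normal form -/
def InForm : List (Lvl C) → Q → Prop
  | [], a => ∃ f ∈ fin, K.rep a f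
  | L :: r, a => ∃ t ∈ L.trans, ∃ u h, K.rep u t.1.2 ∧ h ∈ hof K (ngens finG r) ∧ a = u * h

theorem exists_evL {gens : List C} (hg : Has K gens) :
    ∀ w, ∃ a ∈ hof K gens, K.rep a (evL K gens w)
  | [] => ⟨1, one_mem _, K.rep_one⟩
  | k :: w => by
    obtain ⟨b, hb, hr⟩ := exists_evL hg w
    rcases lt_or_ge k gens.length with hk | hk
    · obtain ⟨a, ha⟩ := hg _ (List.getElem_mem hk)
      refine ⟨a * b, mul_mem (Subgroup.subset_closure ⟨_, List.getElem_mem hk, ha⟩) hb, ?_⟩
      rw [evL, List.getD_eq_getElem _ _ hk]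
      exact K.rep_mul ha hr
    · refine ⟨1 * b, mul_mem (one_mem _) hb, ?_⟩
      rw [evL, List.getD_eq_default _ _ hk]
      exact K.rep_mul K.rep_one hr

theorem mem_hof_of_word {gens : List C} (hg : Has K gens) {a : Q} {x : C} {w : List ℕ} (ha : K.rep a x)
    (h : K.eqc (evL K gens w) x = true) : a ∈ hof K gens := by
  obtain ⟨b, hb, hr⟩ := exists_evL K hg w
  rw [← (K.eq_iff hr ha).1 h]
  exact hb

theorem closed_finite [Finite Q] {S : Set Q} {T : Set Q} (h1 : (1 : Q) ∈ S)
    (hcl : ∀ g ∈ T, ∀ s ∈ S, g * s ∈ S) : ∀ a ∈ Subgroup.closure T, a ∈ S := by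
  intro a ha
  have hstab : ∀ s ∈ S, a * s ∈ S := by
    rw [← Subgroup.mem_toSubmonoid, Subgroup.closure_toSubmonoid_of_finite] at ha
    induction ha using Submonoid.closure_induction with
    | mem g hg => exact hcl g hg
    | one => intro s hs; rwa [one_mul]
    | mul x y _ _ hx hy => intro s hs; rw [mul_assoc]; exact hx _ (hy s hs)
  simpa using hstab 1 h1

variable {K pt fin finG} (hK : Respects K)

include hK

theorem has_next {L : Lvl C} {r : List (Lvl C)} (h : chainOK K pt fin finG (L :: r) = true)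
    (hg : Has K L.gens) : Has K (ngens finG r) ∧ hof K (ngens finG r) ≤ hof K L.gens := by
  simp only [chainOK, Bool.and_eq_true, List.all_eq_true, List.any_eq_true] at h
  have hn := h.1.1.2
  have hh : Has K (ngens finG r) := by
    intro g hgm
    obtain ⟨w, -, hw⟩ := hn g hgm
    obtain ⟨b, -, hr⟩ := exists_evL K hg w
    exact ⟨b, hK _ _ _ hr hw⟩
  refine ⟨hh, (Subgroup.closure_le _).2 ?_⟩
  rintro a ⟨g, hgm, ha⟩
  obtain ⟨w, -, hw⟩ := hn g hgm
  exact mem_hof_of_word K hg ha hw

theorem chain_spec [Finite Q] : ∀ (Ls : List (Lvl C)), chainOK K pt fin finG Ls = true →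
    Has K (ngens finG Ls) →
      (∀ a x, K.rep a x → sift K pt fin Ls x = true → a ∈ hof K (ngens finG Ls)) ∧
      ∀ a ∈ hof K (ngens finG Ls), InForm K fin finG Ls a
  | [], h, hg => by
    simp only [chainOK, Bool.and_eq_true, List.all_eq_true, List.any_eq_true, Bool.or_eq_true] at h
    obtain ⟨⟨⟨f1, hf1, e1⟩, hcl⟩, hsub⟩ := h
    refine ⟨fun a x ha hx => ?_, fun a ha => ?_⟩
    · obtain ⟨f, hf, hxf⟩ := List.any_eq_true.1 hx
      rcases hsub f hf with e | ⟨g, hgm, e⟩
      · rw [(K.eq_iff (hK _ _ _ ha hxf) K.rep_one).1 e]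
        exact one_mem _
      · exact Subgroup.subset_closure ⟨g, hgm, hK _ _ _ (hK _ _ _ ha hxf) e⟩
    · refine closed_finite (S := {a | InForm K fin finG [] a}) ?_ ?_ a ha
      · exact ⟨f1, hf1, hK _ _ _ K.rep_one e1⟩
      · rintro g ⟨x, hx, hgx⟩ s ⟨f, hf, hsf⟩
        obtain ⟨f', hf', e⟩ := hcl f hf x hx
        exact ⟨f', hf', hK _ _ _ (K.rep_mul hgx hsf) e⟩
  | L :: r, h, hg => by
    obtain ⟨hhas, hle⟩ := has_next hK h hg
    have h0 := h
    simp only [chainOK, Bool.and_eq_true, List.all_eq_true, List.any_eq_true] at h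
    obtain ⟨⟨⟨⟨ht, t1, ht1, e1⟩, -⟩, hcl⟩, hr0⟩ := h
    obtain ⟨hsound, -⟩ := chain_spec r hr0 hhas
    have htrans : ∀ t ∈ L.trans, ∃ u v, K.rep u t.1.2 ∧ K.rep v t.2.2 ∧ v * u = 1 ∧
        u ∈ hof K L.gens := by
      intro t hm
      obtain ⟨⟨ew, ew'⟩, einv⟩ := ht t hm
      obtain ⟨u, -, hb⟩ := exists_evL K hg t.1.1
      obtain ⟨v, -, hc⟩ := exists_evL K hg t.2.1
      have hu := hK _ _ _ hb ew
      have hv := hK _ _ _ hc ew'
      exact ⟨u, v, hu, hv, (K.eq_iff (K.rep_mul hv hu) K.rep_one).1 einv, mem_hof_of_word K hg hu ew⟩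
    have split : ∀ a x, K.rep a x → sift K pt fin (L :: r) x = true →
        ∃ t ∈ L.trans, ∃ u h, K.rep u t.1.2 ∧ h ∈ hof K (ngens finG r) ∧ a = u * h ∧
          u ∈ hof K L.gens := by
      intro a x ha hx
      rw [sift] at hx
      split at hx
      · exact absurd hx Bool.false_ne_true
      next t hfind =>
        have hm := List.mem_of_find?_eq_some hfind
        obtain ⟨u, v, hu, hv, hvu, huH⟩ := htrans t hm
        refine ⟨t, hm, u, v * a, hu, hsound _ _ (K.rep_mul hv ha) hx, ?_, huH⟩
        rw [eq_inv_of_mul_eq_one_left hvu, mul_inv_cancel_left]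
    refine ⟨fun a x ha hx => ?_, fun a ha => ?_⟩
    · obtain ⟨t, -, u, h', -, hh', rfl, huH⟩ := split a x ha hx
      exact mul_mem huH (hle hh')
    · refine closed_finite (S := {a | InForm K fin finG (L :: r) a}) ?_ ?_ a ha
      · obtain ⟨u, v, hu, -, -, -⟩ := htrans t1 ht1
        exact ⟨t1, ht1, u, 1, hu, one_mem _, by rw [mul_one, ← (K.eq_iff K.rep_one hu).1 e1]⟩
      · rintro g ⟨x, hx, hgx⟩ s ⟨t, hm, u, h', hu, hh', rfl⟩
        obtain ⟨t', hm', u', h'', hu', hh'', he, -⟩ :=
          split (g * u) _ (K.rep_mul hgx hu) (hcl x hx t hm)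
        exact ⟨t', hm', u', h'' * h', hu', mul_mem hh'' hh', by rw [← mul_assoc, he, mul_assoc]⟩

end CfsgLib.KnownB.Sp62
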