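import Cfsg.Agent.Lib.KnownB.Sp62.Code

/-! Generated certificates for the double cover of `Sp₆(2)`. -/

set_option autoImplicit false
set_option maxRecDepth 100000

namespace CfsgLib.KnownB.Sp62

open CfsgLib.KnownB.Mult

/-- words for the elements of the certificate at `2` -/
def words2 : List (List ℕ) := [
    [4, 3, 1, 0, 2, 1, 5, 1, 2, 3, 4, 2, 3, 0, 2, 1],
    [4, 3, 0, 1, 2, 0, 1, 5, 1, 2, 3, 4, 3, 0, 2, 1, 0, 3, 1, 1],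
    [3, 4, 2, 3, 0, 1, 2, 0, 1, 5, 1, 2, 3, 0, 4, 1, 2, 1, 0, 3],
    [2, 1, 5, 2, 3, 4, 0, 1, 2, 0, 3, 1, 0, 2, 1, 5, 4, 1, 2, 3, 0, 1, 2, 0, 1, 5, 4, 3, 0, 1, 2, 1],
    [4, 0, 1, 2, 1, 0],
    [3, 4, 2, 0, 3, 1, 0, 2, 1, 5, 0, 1, 2, 3, 0, 4, 1, 2, 3, 0],
    [3, 0, 2, 1, 0, 5, 1, 2, 3, 0],
    [1, 0, 1, 5, 0, 1, 0, 1, 1],
    [0, 2, 1, 5, 2, 1, 0, 2],
    [1, 1],
    [2, 3, 4, 0, 3, 1, 2, 0],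
    [1, 2, 0, 1, 5, 1, 2, 1, 0, 1],
    [5, 3, 1, 2, 0, 1, 5, 3, 4, 1, 2, 3, 1, 0, 2, 1]]

/-- a conjugator at `2` -/
def conj2_0 : C6 := ⟨⟨1, 2, 6, 8, 54, 34⟩, ⟨72624954990068228, 216456473327436803, 72905317570183169, 288515162615316996, 216176097862222594, 288797724168422144, 217019423280857345, 844437865366272⟩⟩

/-- a conjugator at `2` -/
def conj2_1 : C6 := ⟨⟨47, 55, 31, 61, 62, 59⟩, ⟨288794438535282948, 144962920147845122, 288795525178917888, 144959630185858052, 288797732741775363, 144962924493144577, 844424930131968, 1130302265361154⟩⟩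

/-- a conjugator at `2` -/
def conj2_2 : C6 := ⟨⟨51, 25, 62, 23, 11, 19⟩, ⟨4410965033474, 289079216375398401, 145244403764626176, 216454265714115076, 217301980622619651, 216456469015561218, 144396671676187394, 144960712517682180⟩⟩

/-- certificate at `2` -/
def cert2 : Cert C6 where
  n := 10
  σ := [⟨⟨1, 2, 33, 44, 16, 5⟩, ⟨281479288586500, 283691196810240, 8606974980, 288516262110233603, 217021613680427008, 216455365192122628, 216454269975658498, 73184602096731139⟩⟩,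
    ⟨⟨37, 2, 43, 44, 52, 15⟩, ⟨72624942104969728, 144678150947799040, 72342380468110083, 72623846821331713, 289358492312011266, 562967200531203, 144399961637782529, 217019423314281217⟩⟩,
    ⟨⟨1, 38, 50, 8, 52, 22⟩, ⟨289075909233803521, 288794438552256768, 289077004417040386, 288797728480232196, 145243295596150788, 144397775482781955, 2211908288515, 846623953519105⟩⟩,
    ⟨⟨37, 2, 41, 44, 16, 13⟩, ⟨17039616, 65796, 16974849, 16909057, 216740138703781888, 845533031825923, 216454269975592964, 73184602063241985⟩⟩,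
    ⟨⟨26, 25, 32, 19, 11, 4⟩, ⟨289075913511928320, 282591718604802, 289358483672007684, 72342380485017857, 1130310838517761, 144681440892814083, 217301980555575297, 216174998384148481⟩⟩,
    ⟨⟨26, 11, 4, 19, 25, 32⟩, ⟨289075900644065537, 284790758638594, 288232588076843011, 144401074051351041, 144680337052794884, 288794429945413891, 565153271775235, 1116691628545⟩⟩,
    ⟨⟨10, 2, 4, 3, 25, 32⟩, ⟨72624954922762497, 216456473293619202, 72905317503205634, 288515162581828608, 1127003763769858, 1130310905496323, 564062400283649, 72060901229986561⟩⟩,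
    ⟨⟨62, 11, 13, 55, 25, 41⟩, ⟨145244390812549634, 144399978767319299, 145242200379490819, 144398875028029952, 2216220165121, 3311436563456, 283686901908226, 72904218008093440⟩⟩,
    ⟨⟨44, 52, 31, 37, 38, 59⟩, ⟨769, 1025, 67240964, 50331905, 3302830047234, 4402358387715, 288797741331709955, 216173885937287681⟩⟩,
    ⟨⟨1, 2, 4, 8, 16, 32⟩, ⟨4, 1024, 262144, 67108864, 17179869184, 4398046511104, 1125899906842624, 288230376151711744⟩⟩]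
  rules := [([0, 0], [9]),
    ([1, 1], [9]),
    ([2, 2], [9]),
    ([3, 3], [9]),
    ([4, 4], [9]),
    ([5, 5], [9]),
    ([6, 6], [9]),
    ([7, 7], [9]),
    ([8, 8], [9]),
    ([9, 9], []),
    ([1, 0], [0, 1, 9]),
    ([2, 0], [0, 2]),
    ([3, 0], [0, 3, 9]),
    ([4, 0], [0, 2, 4, 5, 7]),
    ([5, 0], [0, 2, 7]),
    ([6, 0], [0, 1, 6]),
    ([7, 0], [0, 2, 5, 9]),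
    ([8, 0], [0, 3, 8, 9]),
    ([9, 0], [0, 9]),
    ([2, 1], [1, 2, 9]),
    ([3, 1], [1, 3]),
    ([4, 1], [1, 2, 4, 5, 7]),
    ([5, 1], [1, 7]),
    ([6, 1], [1, 6, 9]),
    ([7, 1], [1, 5]),
    ([8, 1], [1, 2, 8]),
    ([9, 1], [1, 9]),
    ([3, 2], [2, 3]),
    ([4, 2], [2, 4]),
    ([5, 2], [2, 5, 9]),
    ([6, 2], [2, 5, 6, 7, 9]),
    ([7, 2], [2, 7, 9]),
    ([8, 2], [2, 8, 9]),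
    ([9, 2], [2, 9]),
    ([4, 3], [3, 4]),
    ([5, 3], [3, 5]),
    ([6, 3], [3, 6]),
    ([7, 3], [3, 7]),
    ([8, 3], [3, 8, 9]),
    ([9, 3], [3, 9]),
    ([5, 4], [4, 5, 9]),
    ([6, 4], [4, 5, 6]),
    ([7, 4], [4, 7]),
    ([8, 4], [4, 8]),
    ([9, 4], [4, 9]),
    ([6, 5], [5, 6, 9]),
    ([7, 5], [5, 7]),
    ([8, 5], [5, 8]),
    ([9, 5], [5, 9]),
    ([7, 6], [6, 7, 9]),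
    ([8, 6], [6, 7, 8]),
    ([9, 6], [6, 9]),
    ([8, 7], [7, 8, 9]),
    ([9, 7], [7, 9]),
    ([9, 8], [8, 9])]
  conjs := [(conj2_0, [0], [0]),
    (conj2_0, [1], [1]),
    (conj2_0, [2, 5, 7], [1, 2, 9]),
    (conj2_0, [2, 3, 5, 7], [1, 2, 3, 9]),
    (conj2_0, [2, 5, 9], [1, 2, 5, 6]),
    (conj2_0, [6], [6]),
    (conj2_0, [5, 7, 9], [5, 7]),
    (conj2_0, [9], [9]),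
    (conj2_0, [4, 8], [1, 4, 6, 7, 8]),
    (conj2_1, [0], [1]),
    (conj2_1, [3], [2, 9]),
    (conj2_1, [2, 5, 9], [2, 5, 8]),
    (conj2_1, [4], [4]),
    (conj2_1, [2, 5, 7], [2, 5, 7]),
    (conj2_1, [1, 5, 7, 9], [0, 2, 3, 5, 7, 9]),
    (conj2_1, [2], [3, 9]),
    (conj2_1, [8], [8, 9]),
    (conj2_1, [9], [9]),
    (conj2_2, [4], [8]),
    (conj2_2, [1, 5, 7, 9], [1, 2, 6, 7, 9]),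
    (conj2_2, [2], [2, 7]),
    (conj2_2, [6], [1, 2, 9]),
    (conj2_2, [7, 9], [2, 5, 7, 9]),
    (conj2_2, [5, 7], [5, 7, 9]),
    (conj2_2, [8], [3, 7, 8]),
    (conj2_2, [9], [9]),
    (conj2_2, [2, 3, 5, 7], [3, 4, 8])]
  rows := [(.ovl [0] 0 [], [0, 0, 0, 0, 0, 0, 0, 0, 0, 0, 0, 0, 0, 0, 0, 0, 0, 0, 1]),
    (.ovl [1] 0 [], [0, 0, 0, 0, 0, 0, 0, 0, 0, 1, 0, 0, 0, 0, 0, 0, 0, 0, 1, 0, 0, 0, 0, 0, 0, 0, 1]),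
    (.ovl [2] 0 [], [0, 0, 0, 0, 0, 0, 0, 0, 0, 0, 0, 0, 0, 0, 0, 0, 0, 0, 0, 0, 0, 0, 0, 0, 0, 0, 0, 0, 0, 0, 0, 0, 0, 1]),
    (.ovl [3] 0 [], [0, 0, 0, 0, 0, 0, 0, 0, 0, 1, 0, 0, 0, 0, 0, 0, 0, 0, 1, 0, 0, 0, 0, 0, 0, 0, 0, 0, 0, 0, 0, 0, 0, 0, 0, 0, 0, 0, 0, 1]),
    (.ovl [4] 0 [], [0, 0, 0, 0, 0, 1, 0, 1, 0, 0, 0, 1, 0, 0, 1, 0, 1, 0, 0, 0, 0, 0, 0, 0, 0, 0, 0, 0, 0, 0, 0, 1, 0, 1, 0, 0, 0, 0, 0, 0, 0, 0, 0, 0, 1, 0, 0, 0, 0, 0, 0, 0, 0, 1]),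
    (.ovl [5] 0 [], [0, 0, 1, 0, 0, 0, 0, 0, 0, 1, 0, 1, 0, 0, 1, 0, 1, 0, 0, 0, 0, 0, 0, 0, 0, 0, 0, 0, 0, 0, 0, 0, 0, 0]),
    (.ovl [6] 0 [], [0, 1, 0, 0, 0, 0, 0, 0, 0, 1, 1, 0, 0, 0, 0, 0, 0, 0, 0, 0, 0, 0, 0, 0, 0, 0, 1, 0, 0, 0, 0, 0, 0, 0, 0, 0, 0, 0, 0, 0, 0, 0, 0, 0, 0, 0, 0, 0, 0, 0, 0, 1]),
    (.ovl [8] 0 [], [0, 0, 0, 1, 0, 0, 0, 0, 0, 0, 0, 0, 1, 0, 0, 0, 0, 0, 1, 0, 0, 0, 0, 0, 0, 0, 0, 0, 0, 0, 0, 0, 0, 0, 0, 0, 0, 0, 0, 1, 0, 0, 0, 0, 0, 0, 0, 0, 0, 0, 0, 0, 0, 0, 1]),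
    (.ovl [1] 1 [], [0, 0, 0, 0, 0, 0, 0, 0, 0, 0, 0, 0, 0, 0, 0, 0, 0, 0, 0, 0, 0, 0, 0, 0, 0, 0, 1]),
    (.ovl [4] 1 [], [0, 0, 1, 0, 0, 1, 0, 1, 0, 0, 0, 0, 0, 0, 0, 0, 0, 0, 0, 1, 0, 0, 1, 0, 1, 0, 0, 0, 0, 0, 0, 0, 0, 1, 0, 0, 0, 0, 0, 0, 0, 0, 0, 0, 1, 0, 0, 0, 1, 0, 0, 0, 0, 0]),
    (.ovl [5] 1 [], [0, 0, 0, 0, 0, 0, 0, 0, 0, 0, 0, 0, 0, 0, 0, 0, 0, 0, 0, 0, 0, 0, 1, 0, 1, 0, 0, 0, 0, 0, 0, 0, 0, 0, 0, 0, 0, 0, 0, 0, 0, 0, 0, 0, 0, 0, 0, 0, 1]),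
    (.ovl [6] 1 [], [0, 0, 0, 0, 0, 0, 0, 0, 0, 1, 0, 0, 0, 0, 0, 0, 0, 0, 0, 0, 0, 0, 0, 0, 0, 0, 1, 0, 0, 0, 0, 0, 0, 0, 0, 0, 0, 0, 0, 0, 0, 0, 0, 0, 0, 0, 0, 0, 0, 0, 0, 1]),
    (.ovl [7] 1 [], [0, 0, 0, 0, 0, 0, 0, 0, 0, 0, 0, 0, 0, 0, 0, 0, 0, 0, 0, 0, 0, 0, 1, 0, 1, 0, 0, 0, 0, 0, 0, 0, 0, 0, 0, 0, 0, 0, 0, 0, 0, 0, 0, 0, 0, 0, 0, 0, 0, 0, 0, 0, 0, 1]),
    (.ovl [8] 1 [], [0, 0, 1, 0, 0, 0, 0, 0, 0, 1, 0, 0, 0, 0, 0, 0, 0, 0, 0, 1, 0, 0, 0, 0, 0, 0, 0, 0, 0, 0, 0, 0, 0, 1, 0, 0, 0, 0, 0, 0, 0, 0, 0, 0, 0, 0, 0, 0, 0, 0, 0, 0, 0, 0, 1]),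
    (.ovl [4] 2 [], [0, 0, 0, 0, 0, 0, 0, 0, 0, 0, 0, 0, 0, 0, 0, 0, 0, 0, 0, 0, 0, 0, 0, 0, 0, 0, 0, 0, 0, 0, 0, 0, 0, 0, 0, 0, 0, 0, 0, 0, 0, 0, 0, 0, 1]),
    (.ovl [5] 2 [], [0, 0, 0, 0, 0, 0, 0, 0, 0, 1, 0, 0, 0, 0, 0, 0, 0, 0, 0, 0, 0, 0, 0, 0, 0, 0, 0, 0, 0, 0, 0, 0, 0, 1, 0, 0, 0, 0, 0, 0, 0, 0, 0, 0, 0, 0, 0, 0, 1]),
    (.ovl [6] 2 [], [0, 0, 0, 0, 0, 1, 0, 1, 0, 1, 0, 0, 0, 0, 0, 0, 0, 0, 0, 0, 0, 0, 0, 0, 0, 0, 0, 0, 0, 1, 0, 1, 0, 1, 0, 0, 0, 0, 0, 0, 0, 0, 0, 0, 0, 0, 0, 0, 1, 0, 0, 1, 0, 1]),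
    (.ovl [8] 2 [], [0, 0, 0, 0, 0, 0, 0, 0, 0, 1, 0, 0, 0, 0, 0, 0, 0, 0, 0, 0, 0, 0, 0, 0, 0, 0, 0, 0, 0, 0, 0, 0, 0, 1, 0, 0, 0, 0, 0, 0, 0, 0, 0, 0, 0, 0, 0, 0, 0, 0, 0, 0, 0, 0, 1]),
    (.ovl [6] 4 [], [0, 0, 0, 0, 0, 1, 0, 0, 0, 1, 0, 0, 0, 0, 0, 0, 0, 0, 0, 0, 0, 0, 0, 0, 0, 0, 0, 0, 0, 0, 0, 0, 0, 0, 0, 0, 0, 0, 0, 0, 1, 0, 0, 0, 0, 0, 0, 0, 1, 0, 0, 1]),
    (.ovl [8] 6 [], [0, 0, 0, 0, 0, 0, 0, 1, 0, 1, 0, 0, 0, 0, 0, 0, 0, 0, 0, 0, 0, 0, 0, 0, 0, 0, 0, 0, 0, 0, 0, 0, 0, 0, 0, 0, 0, 0, 0, 0, 0, 0, 0, 0, 0, 0, 0, 0, 0, 1, 0, 0, 0, 1, 1]),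
    (.ovl [5] 10 [], [0, 0, 0, 0, 0, 0, 0, 0, 0, 0, 0, 0, 0, 0, 1, 0, 1, 0, 0, 1, 0, 0, 1, 0, 1, 0, 0, 0, 0, 0, 0, 0, 0, 1, 0, 0, 0, 0, 0, 0, 0, 0, 0, 0, 0, 0, 0, 0, 0]),
    (.ovl [8] 10 [], [0, 0, 0, 0, 0, 0, 0, 0, 0, 0, 0, 1, 0, 0, 0, 0, 0, 0, 0, 0, 1, 0, 0, 0, 0, 0, 1, 1, 0, 0, 0, 0, 0, 1, 0, 0, 0, 0, 0, 1, 0, 0, 0, 0, 0, 0, 0, 0, 0, 0, 0, 0, 0, 0, 1]),
    (.ovl [6] 11 [], [0, 0, 1, 0, 0, 1, 0, 0, 0, 1, 0, 0, 0, 0, 1, 0, 1, 0, 1, 0, 0, 0, 0, 0, 1, 0, 1, 0, 0, 1, 1, 0, 0, 1, 0, 0, 0, 0, 0, 0, 0, 0, 0, 0, 0, 1, 1, 0, 1, 0, 0, 1, 0, 0]),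
    (.ovl [8] 11 [], [0, 0, 0, 0, 0, 0, 0, 0, 0, 0, 0, 0, 0, 0, 0, 0, 0, 0, 1, 0, 0, 0, 0, 0, 0, 0, 0, 1, 0, 0, 0, 0, 0, 1]),
    (.ovl [4] 12 [], [0, 0, 0, 0, 0, 0, 0, 0, 0, 0, 0, 0, 0, 0, 0, 0, 0, 0, 0, 0, 0, 0, 0, 0, 0, 0, 0, 1, 0, 0, 0, 0, 0, 1, 0, 1, 0, 1, 0, 0, 0, 0, 0, 0, 1, 0, 0, 0, 1, 0, 0, 0, 0, 1]),
    (.ovl [4] 13 [], [0, 0, 1, 0, 0, 1, 0, 1, 0, 1, 0, 0, 0, 0, 0, 0, 0, 0, 1, 0, 0, 0, 0, 0, 0, 0, 0, 0, 1, 1, 0, 1, 0, 0, 0, 0, 0, 0, 0, 0, 1, 0, 1, 0, 0, 0, 1, 0, 1, 0, 0, 0, 0, 1]),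
    (.ovl [6] 13 [], [0, 0, 1, 0, 0, 1, 0, 1, 0, 0, 0, 0, 0, 0, 1, 0, 0, 0, 0, 0, 0, 1, 1, 0, 0, 0, 0, 0, 1, 1, 1, 1, 0, 0, 0, 0, 0, 0, 0, 0, 1, 0, 1, 0, 0, 1, 1, 0, 1, 0, 0, 1, 0, 0]),
    (.ovl [8] 13 [], [0, 0, 0, 0, 0, 0, 0, 0, 0, 1, 0, 0, 0, 0, 0, 0, 0, 0, 0, 0, 0, 0, 0, 0, 0, 0, 0, 1, 0, 0, 0, 0, 1, 1, 1, 1, 0, 1, 0, 0, 0, 0, 0, 0, 0, 0, 0, 1, 0, 0, 0, 0, 1]),
    (.ovl [6] 14 [], [0, 0, 0, 0, 0, 0, 0, 1, 0, 0, 0, 0, 0, 0, 0, 0, 0, 0, 1, 1, 0, 0, 0, 0, 1, 0, 0, 0, 0, 0, 1, 0, 0, 0, 0, 0, 0, 0, 0, 0, 0, 0, 0, 0, 0, 1, 0, 0, 1, 0, 0, 1, 0, 1]),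
    (.ovl [8] 14 [], [0, 0, 0, 0, 0, 0, 0, 0, 0, 1, 0, 0, 0, 0, 0, 0, 0, 0, 0, 0, 0, 0, 0, 0, 0, 0, 0, 1, 0, 0, 0, 0, 1, 1, 0, 0, 0, 1, 0, 0, 0, 0, 0, 0, 0, 0, 0, 1, 0, 0, 0, 0, 1]),
    (.ovl [6] 15 [], [0, 1, 0, 0, 0, 0, 0, 0, 0, 1, 0, 0, 0, 0, 0, 0, 0, 0, 1, 0, 0, 0, 0, 1, 0, 0, 0, 0, 0, 0, 0, 0, 0, 0, 0, 0, 0, 0, 0, 0, 0, 0, 0, 0, 0, 0, 0, 0, 0, 0, 0, 1]),
    (.ovl [8] 15 [], [0, 0, 0, 0, 0, 1, 0, 0, 0, 0, 0, 0, 0, 0, 0, 0, 1, 0, 0, 0, 1, 0, 0, 0, 0, 1, 1, 1, 0, 0, 1, 0, 0, 0, 0, 0, 1, 1, 0, 0, 0, 0, 0, 0, 0, 1, 1, 0, 1, 0, 0, 0]),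
    (.ovl [8] 17 [], [0, 0, 0, 1, 0, 0, 0, 0, 0, 0, 0, 0, 0, 0, 0, 0, 0, 0, 1, 0, 0, 0, 0, 0, 0, 0, 0, 0, 0, 0, 0, 0, 0, 0, 0, 0, 0, 0, 1, 1, 0, 0, 0, 0, 0, 0, 0, 0, 0, 0, 0, 0, 0, 0, 0]),
    (.ovl [6] 19 [], [0, 0, 0, 0, 0, 0, 0, 0, 0, 1, 0, 0, 0, 0, 0, 0, 0, 0, 0, 0, 0, 0, 1, 0, 1, 0, 1, 0, 0, 0, 0, 0, 0, 1, 0, 0, 0, 0, 0, 0, 0, 0, 0, 0, 0, 1, 1, 0, 1, 1, 0, 1, 0, 0]),
    (.ovl [5] 21 [], [0, 0, 0, 0, 0, 0, 0, 0, 0, 0, 0, 0, 0, 0, 0, 0, 0, 0, 0, 0, 0, 0, 0, 0, 0, 0, 1, 0, 0, 0, 0, 1, 0, 0, 0, 0, 0, 0, 0, 0, 1, 0, 1, 0, 1, 0, 1, 0, 1, 0, 0, 0, 0, 1]),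
    (.ovl [8] 21 [], [0, 0, 0, 0, 0, 0, 0, 0, 0, 0, 0, 0, 0, 0, 0, 0, 0, 0, 0, 0, 0, 0, 0, 0, 0, 0, 0, 0, 1, 1, 0, 1, 1, 0, 0, 0, 0, 0, 0, 0, 0, 0, 0, 0, 1, 0, 0, 1, 1, 0, 0, 0, 1, 0, 0]),
    (.ovl [8] 22 [], [0, 0, 0, 0, 0, 0, 0, 0, 0, 0, 0, 0, 0, 0, 0, 0, 0, 0, 0, 0, 0, 0, 0, 0, 0, 0, 0, 0, 0, 0, 0, 1, 0, 0, 0, 0, 0, 0, 0, 0, 0, 0, 0, 0, 0, 0, 0, 1, 0, 0, 0, 0, 1, 0, 1]),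
    (.ovl [8] 41 [], [0, 0, 0, 0, 0, 0, 0, 0, 0, 0, 0, 0, 0, 0, 0, 0, 0, 0, 0, 0, 0, 0, 0, 0, 0, 0, 0, 0, 0, 0, 0, 0, 0, 0, 0, 0, 0, 0, 0, 0, 0, 0, 1, 0, 0, 0, 0, 1, 0, 0, 0]),
    (.cnj 0 [0, 0] [7], [0, 0, 0, 0, 0, 0, 0, 0, 0, 0, 0, 0, 0, 0, 0, 0, 0, 0, 0, 0, 0, 0, 0, 0, 0, 0, 0, 0, 0, 0, 0, 0, 0, 0, 0, 0, 0, 0, 0, 0, 0, 0, 0, 0, 0, 0, 0, 0, 0, 0, 0, 0, 0, 0, 0, 0, 0, 0, 0, 0, 0, 0, 1]),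
    (.cnj 0 [2, 2] [7], [0, 1, 0, 0, 0, 1, 0, 1, 0, 0, 0, 0, 0, 0, 0, 0, 0, 0, 0, 1, 0, 0, 0, 0, 0, 0, 1, 0, 0, 1, 0, 1, 0, 0, 0, 0, 0, 0, 0, 0, 0, 0, 0, 0, 0, 0, 1, 0, 0, 0, 0, 0, 0, 1, 0, 0, 0, 0, 0, 0, 0, 0, 1]),
    (.cnj 0 [4, 4] [7], [0, 1, 0, 0, 0, 0, 1, 1, 0, 1, 0, 0, 0, 0, 0, 0, 0, 0, 0, 1, 0, 0, 1, 1, 0, 0, 0, 0, 0, 1, 1, 1, 0, 0, 0, 0, 0, 0, 0, 0, 0, 0, 0, 0, 0, 1, 0, 0, 1, 1, 0, 0, 0, 1, 0, 0, 0, 0, 0, 0, 0, 0, 1]),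
    (.cnj 0 [8, 8] [], [0, 1, 1, 0, 0, 0, 1, 0, 0, 1, 0, 0, 0, 0, 0, 0, 0, 0, 0, 0, 0, 1, 0, 1, 1, 1, 0, 0, 1, 0, 1, 1, 0, 0, 0, 0, 0, 0, 0, 0, 1, 1, 0, 0, 1, 1, 1, 0, 0, 1, 1, 0, 1, 0, 1, 0, 0, 0, 0, 0, 0, 0, 0, 0]),
    (.cnj 0 [8, 2] [2, 7, 8], [0, 0, 1, 0, 0, 0, 0, 1, 0, 1, 0, 0, 0, 0, 0, 0, 0, 0, 0, 1, 0, 1, 0, 1, 1, 1, 0, 0, 1, 1, 0, 1, 0, 0, 0, 0, 0, 0, 0, 0, 1, 0, 1, 0, 1, 1, 1, 1, 1, 1, 0, 1, 1, 0, 0, 0, 0, 0, 0, 0, 0, 0, 1, 0]),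
    (.cnj 9 [9, 9] [17], [1, 1, 0, 0, 0, 0, 0, 0, 0, 0, 0, 0, 0, 0, 0, 0, 0, 0, 0, 0, 0, 0, 0, 0, 0, 0, 0, 0, 0, 0, 0, 0, 0, 0, 0, 0, 0, 0, 0, 0, 0, 0, 0, 0, 0, 0, 0, 0, 0, 0, 0, 0, 0, 0, 0, 0, 0, 0, 0, 0, 0, 0, 0, 0, 0, 0, 0, 0, 0, 0, 0, 0, 1]),
    (.cnj 9 [10, 10] [17], [0, 0, 1, 1, 0, 0, 0, 0, 0, 1, 0, 0, 0, 0, 0, 0, 0, 0, 0, 0, 0, 0, 0, 0, 0, 0, 0, 0, 0, 0, 0, 0, 0, 1, 0, 0, 0, 0, 0, 0, 0, 0, 0, 0, 0, 0, 0, 0, 0, 0, 0, 0, 0, 0, 0, 0, 0, 0, 0, 0, 0, 0, 0, 0, 0, 0, 0, 0, 0, 0, 0, 0, 1]),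
    (.cnj 9 [11, 11] [17], [0, 0, 0, 0, 0, 0, 0, 0, 1, 0, 0, 0, 0, 0, 0, 0, 0, 0, 0, 0, 0, 0, 0, 0, 0, 0, 0, 0, 0, 0, 0, 0, 1, 1, 0, 0, 0, 0, 0, 0, 0, 0, 0, 0, 0, 0, 0, 1, 0, 0, 0, 0, 0, 0, 1, 0, 0, 0, 0, 0, 0, 0, 0, 0, 0, 0, 0, 0, 0, 0, 0, 0, 1]),
    (.cnj 9 [12, 12] [17], [0, 0, 0, 0, 0, 0, 0, 0, 0, 0, 0, 0, 0, 0, 0, 0, 0, 0, 0, 0, 0, 0, 0, 0, 0, 0, 0, 0, 0, 0, 0, 0, 0, 0, 0, 0, 0, 0, 0, 0, 0, 0, 0, 0, 0, 0, 0, 0, 0, 0, 0, 0, 0, 0, 0, 0, 0, 0, 0, 0, 0, 0, 0, 0, 0, 0, 0, 0, 0, 0, 0, 0, 1]),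
    (.cnj 9 [11, 9] [9, 11, 13], [0, 0, 0, 0, 0, 0, 0, 0, 0, 0, 0, 1, 0, 0, 1, 0, 0, 0, 1, 1, 0, 0, 1, 0, 0, 1, 0, 0, 0, 0, 0, 1, 1, 0, 0, 0, 0, 0, 0, 0, 0, 0, 0, 0, 0, 0, 0, 1, 0, 0, 0, 0, 1, 1, 0, 0, 0, 0, 0, 0, 0, 0, 0, 0, 0, 0, 0, 0, 1]),
    (.cnj 9 [12, 9] [9, 12, 13], [0, 0, 0, 0, 0, 0, 0, 0, 0, 0, 0, 0, 0, 1, 0, 0, 0, 0, 0, 0, 0, 1, 0, 0, 0, 0, 0, 0, 0, 0, 0, 0, 0, 0, 0, 0, 0, 0, 0, 0, 0, 0, 0, 0, 0, 0, 0, 0, 0, 0, 0, 0, 0, 0, 0, 0, 0, 0, 0, 0, 0, 0, 0, 0, 0, 0, 0, 0, 1]),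
    (.cnj 9 [12, 11] [11, 12, 17], [0, 0, 0, 0, 0, 0, 0, 0, 0, 0, 0, 0, 0, 0, 0, 0, 0, 0, 0, 0, 0, 0, 0, 0, 0, 0, 0, 0, 0, 0, 0, 0, 0, 0, 0, 0, 0, 0, 0, 0, 0, 0, 0, 1, 1, 0, 0, 0, 0, 0, 0, 0, 0, 0, 1, 0, 0, 0, 0, 0, 0, 0, 0, 0, 0, 0, 0, 0, 0, 0, 0, 0, 1]),
    (.cnj 18 [18, 18] [25], [0, 0, 0, 0, 1, 0, 0, 0, 1, 0, 0, 0, 0, 0, 0, 0, 0, 0, 0, 0, 0, 0, 0, 0, 0, 0, 0, 0, 0, 0, 0, 0, 0, 0, 0, 0, 0, 0, 0, 0, 0, 0, 0, 0, 0, 0, 0, 0, 0, 0, 0, 0, 0, 0, 0, 0, 0, 0, 0, 0, 0, 0, 0, 0, 0, 0, 0, 0, 0, 0, 0, 0, 0, 0, 0, 0, 0, 0, 0, 0, 1]),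
    (.cnj 18 [19, 19] [25], [0, 0, 1, 0, 0, 0, 1, 0, 0, 0, 0, 0, 0, 0, 0, 0, 0, 0, 0, 1, 0, 0, 1, 1, 0, 0, 0, 0, 0, 1, 1, 0, 0, 0, 0, 0, 0, 0, 0, 0, 0, 0, 0, 0, 0, 1, 0, 0, 1, 1, 0, 0, 0, 0, 0, 0, 0, 0, 0, 0, 0, 0, 0, 0, 0, 0, 0, 0, 0, 0, 0, 0, 0, 0, 0, 0, 0, 0, 0, 0, 1]),
    (.cnj 18 [24, 24] [25], [0, 0, 0, 1, 0, 0, 0, 1, 0, 0, 0, 0, 0, 0, 0, 0, 0, 0, 0, 0, 0, 0, 0, 0, 0, 0, 0, 0, 0, 0, 0, 0, 0, 0, 0, 0, 0, 1, 1, 0, 0, 0, 0, 0, 0, 0, 0, 0, 0, 0, 0, 0, 1, 1, 0, 0, 0, 0, 0, 0, 0, 0, 0, 0, 0, 0, 0, 0, 0, 0, 0, 0, 0, 0, 0, 0, 0, 0, 0, 0, 1])]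
  lam := [[], [0, 0, 0, 0, 0, 0, 0, 0, 0, 0, 0, 0, 0, 0, 0, 1], [0, 0, 0, 0, 0, 0, 0, 0, 0, 0, 0, 0, 0, 1, 0, 0, 0, 0, 0, 0, 0, 0, 1], [1, 0, 0, 0, 0, 0, 0, 0, 0, 0, 0, 0, 0, 0, 0, 0, 0, 1], [], [0, 0, 0, 0, 0, 0, 0, 0, 0, 0, 0, 0, 0, 0, 0, 0, 0, 0, 0, 0, 0, 0, 0, 0, 0, 0, 0, 0, 0, 0, 0, 0, 0, 0, 0, 0, 0, 0, 0, 0, 0, 1], [], [0, 0, 0, 0, 0, 0, 0, 0, 0, 0, 0, 0, 0, 0, 0, 0, 0, 0, 0, 0, 0, 0, 1, 0, 0, 0, 0, 0, 0, 0, 0, 0, 0, 0, 0, 0, 0, 0, 0, 0, 0, 1], [], [1]]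
  combos := [[],
    [(43, 1), (46, 1)],
    [(4, 1), (5, 1), (9, 1), (10, 1), (12, 1), (20, 1), (22, 1), (28, 1), (38, 1), (39, 1), (43, 1), (46, 1)],
    [(0, 1), (1, 1), (2, 1), (4, 1), (5, 1), (8, 1), (9, 1), (10, 1), (12, 1), (20, 1), (22, 1), (28, 1), (38, 1), (39, 1), (43, 1), (44, 1)],
    [(0, 1), (4, 1), (5, 1), (8, 1), (9, 1), (10, 1), (12, 1), (13, 1), (14, 1), (16, 1), (17, 1), (18, 1), (20, 1), (22, 1), (25, 1), (28, 1), (35, 1), (36, 1), (37, 1), (38, 1), (40, 1), (43, 1), (45, 1), (50, 1), (51, 1)],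
    [(3, 1), (4, 1), (5, 1), (8, 1), (10, 1), (15, 1), (16, 1), (17, 1), (18, 1), (20, 1), (22, 1), (23, 1), (25, 1), (28, 1), (29, 1), (32, 1), (35, 1), (36, 1), (37, 1), (38, 1), (40, 1), (43, 1), (46, 1), (51, 1), (52, 1)],
    [(3, 1), (4, 1), (5, 1), (11, 1), (15, 1), (18, 1), (19, 1), (20, 1), (22, 1), (23, 1), (25, 1), (29, 1), (30, 1), (32, 1), (35, 1), (36, 1), (37, 1), (43, 1), (46, 1), (51, 1), (52, 1)],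
    [(2, 1), (3, 1), (4, 1), (5, 1), (8, 1), (9, 1), (13, 1), (14, 1), (15, 1), (16, 1), (18, 1), (20, 1), (22, 1), (23, 1), (25, 1), (28, 1), (29, 1), (32, 1), (35, 1), (36, 1), (37, 1), (38, 1), (40, 1), (43, 1), (46, 1), (51, 1), (52, 1)],
    [(0, 1), (2, 1), (3, 1), (4, 1), (5, 1), (9, 1), (12, 1), (13, 1), (15, 1), (23, 1), (29, 1), (32, 1), (38, 1), (40, 1), (43, 1), (45, 1), (51, 1), (52, 1)],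
    [(0, 1), (1, 1), (8, 1)],
    [(6, 1), (11, 1), (43, 1), (46, 1)],
    [(5, 1), (10, 1), (13, 1), (15, 1), (17, 1), (20, 1)],
    [(0, 1), (1, 1), (3, 1), (4, 1), (5, 1), (7, 1), (8, 1), (9, 1), (10, 1), (12, 1), (17, 1), (20, 1), (22, 1), (28, 1), (38, 1), (39, 1), (43, 1), (44, 1)],
    [],
    [(3, 1), (4, 1), (9, 1), (18, 1), (20, 1), (23, 1), (25, 1), (29, 1), (30, 1), (32, 1), (33, 1), (34, 1), (37, 1), (40, 1), (42, 1), (47, 1), (48, 1), (51, 1), (52, 1)],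
    [],
    [(0, 1), (1, 1), (3, 1), (5, 1), (8, 1), (12, 1), (13, 1), (15, 1), (17, 1), (18, 1), (20, 1), (22, 1), (23, 1), (25, 1), (28, 1), (29, 1), (30, 1), (32, 1), (33, 1), (34, 1), (37, 1), (38, 1), (39, 1), (40, 1), (42, 1), (43, 1), (46, 1), (47, 1), (48, 1), (51, 1), (52, 1)],
    [],
    [(0, 1)],
    [(4, 1), (5, 1), (9, 1), (10, 1), (12, 1), (13, 1), (17, 1), (20, 1), (22, 1), (28, 1), (38, 1), (39, 1), (43, 1), (46, 1)],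
    [(2, 1), (3, 1), (5, 1), (8, 1), (10, 1), (13, 1), (15, 1), (20, 1), (21, 1), (23, 1)],
    [(0, 1), (1, 1), (2, 1), (4, 1), (9, 1), (12, 1), (14, 1), (15, 1), (16, 1), (17, 1), (20, 1), (25, 1), (26, 1), (28, 1), (30, 1), (33, 1), (34, 1), (35, 1), (36, 1), (39, 1), (42, 1), (47, 1), (48, 1)],
    [],
    [(0, 1), (8, 1), (11, 1), (30, 1), (43, 1), (46, 1)],
    [(0, 1), (1, 1), (2, 1), (8, 1), (10, 1), (15, 1)],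
    [(3, 1), (5, 1), (9, 1), (10, 1), (13, 1), (16, 1), (18, 1), (20, 1), (23, 1), (25, 1), (26, 1), (28, 1), (29, 1), (32, 1), (34, 1), (36, 1), (37, 1), (39, 1), (40, 1), (47, 1), (48, 1), (51, 1), (52, 1)],
    [(8, 1)],
    [(0, 1), (2, 1), (23, 1)],
    [(1, 1), (4, 1), (5, 1), (8, 1), (9, 1), (10, 1), (11, 1), (13, 1), (14, 1), (15, 1), (16, 1), (17, 1), (25, 1), (34, 1)],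
    [(2, 1), (8, 1), (9, 1), (10, 1), (11, 1), (12, 1), (14, 1), (15, 1), (16, 1), (20, 1), (22, 1), (28, 1), (38, 1), (39, 1), (43, 1), (46, 1)],
    [(0, 1), (8, 1), (11, 1), (15, 1), (16, 1), (17, 1), (19, 1), (28, 1), (33, 1), (38, 1), (39, 1), (43, 1), (46, 1)],
    [(2, 1), (10, 1), (13, 1), (15, 1), (17, 1), (20, 1), (22, 1), (28, 1), (38, 1), (39, 1), (43, 1), (46, 1)],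
    [(1, 1), (2, 1), (4, 1), (5, 1), (12, 1), (13, 1), (14, 1), (15, 1), (20, 1), (22, 1), (25, 1), (28, 1), (34, 1), (35, 1), (36, 1), (38, 1), (39, 1), (43, 1), (46, 1)],
    [(2, 1)],
    [(1, 1), (2, 1), (4, 1), (5, 1), (24, 1), (25, 1), (27, 1), (34, 1), (35, 1)],
    [(1, 1), (2, 1), (4, 1), (5, 1), (24, 1), (25, 1), (29, 1), (34, 1), (35, 1)],
    [(3, 1), (4, 1), (12, 1), (15, 1), (20, 1), (21, 1), (22, 1), (23, 1), (25, 1), (26, 1), (28, 1), (29, 1), (30, 1), (31, 1), (33, 1), (34, 1), (35, 1), (36, 1), (39, 1), (42, 1)],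
    [(0, 1), (1, 1), (2, 1), (4, 1), (5, 1), (10, 1), (12, 1), (14, 1), (23, 1), (25, 1), (29, 1), (34, 1), (35, 1)],
    [(2, 1), (3, 1), (4, 1), (5, 1), (9, 1), (10, 1), (12, 1), (20, 1), (22, 1), (28, 1), (32, 1), (38, 1), (39, 1), (43, 1), (44, 1)],
    [(1, 1), (3, 1), (8, 1)],
    [(0, 1), (1, 1), (2, 1), (3, 1), (4, 1), (5, 1), (8, 1), (10, 1), (11, 1), (16, 1), (17, 1), (20, 1), (22, 1), (23, 1), (25, 1), (28, 1), (29, 1), (32, 1), (35, 1), (36, 1), (37, 1), (38, 1), (40, 1), (43, 1), (46, 1), (51, 1), (52, 1)],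
    [],
    [(3, 1), (8, 1), (9, 1), (14, 1), (17, 1), (20, 1), (22, 1), (23, 1), (25, 1), (28, 1), (29, 1), (32, 1), (34, 1), (35, 1), (36, 1), (37, 1), (39, 1), (40, 1), (51, 1), (52, 1)],
    [(0, 1), (1, 1), (2, 1), (8, 1), (14, 1), (17, 1), (46, 1), (49, 1)],
    [(14, 1)],
    [(3, 1), (8, 1), (10, 1), (14, 1), (15, 1), (18, 1), (19, 1), (23, 1), (25, 1), (29, 1), (32, 1), (33, 1), (35, 1), (36, 1), (37, 1), (38, 1), (40, 1), (43, 1), (46, 1), (51, 1), (52, 1)],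
    [(0, 1), (1, 1), (4, 1), (5, 1), (8, 1), (9, 1), (10, 1), (11, 1), (12, 1), (13, 1), (15, 1), (16, 1), (17, 1), (20, 1), (22, 1), (28, 1)],
    [(3, 1), (8, 1), (9, 1), (14, 1), (17, 1), (20, 1), (22, 1), (23, 1), (25, 1), (28, 1), (29, 1), (32, 1), (34, 1), (35, 1), (36, 1), (39, 1), (40, 1), (51, 1), (52, 1)],
    [(0, 1), (1, 1), (2, 1), (8, 1), (15, 1)],
    [(0, 1), (1, 1), (2, 1), (3, 1), (4, 1), (5, 1), (9, 1), (10, 1), (12, 1), (13, 1), (14, 1), (16, 1), (17, 1), (18, 1), (19, 1), (20, 1), (22, 1), (23, 1), (25, 1), (28, 1), (29, 1), (32, 1), (35, 1), (36, 1), (37, 1), (38, 1), (40, 1), (43, 1), (46, 1), (51, 1), (52, 1)],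
    [(1, 1), (4, 1), (5, 1), (8, 1), (9, 1), (15, 1), (16, 1), (17, 1), (30, 1), (33, 1), (37, 1), (38, 1), (39, 1), (40, 1), (41, 1), (42, 1)],
    [(0, 1), (1, 1), (11, 1)],
    [(0, 1), (1, 1), (3, 1), (9, 1), (10, 1), (13, 1), (14, 1), (15, 1), (17, 1), (23, 1), (25, 1), (29, 1), (32, 1), (34, 1), (35, 1), (38, 1), (40, 1), (43, 1), (46, 1), (51, 1), (52, 1)],
    [(0, 1), (1, 1), (2, 1), (8, 1), (10, 1), (12, 1), (15, 1)],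
    [(0, 1), (1, 1), (2, 1), (8, 1), (17, 1)]]

/-- words for the elements of the certificate at `3` -/
def words3 : List (List ℕ) := [
    [2, 0, 3, 1, 0, 2, 1, 5, 1, 2, 3, 4, 0, 1, 2, 0],
    [5, 3, 4, 1, 2, 3, 0, 1, 2, 0, 1, 5, 1, 2, 3, 0, 1, 2, 0, 1, 5, 4, 3, 1, 2, 0, 1],
    [2, 1, 5, 4, 2, 0, 3, 1, 0, 2, 1, 5, 3, 0, 4, 1, 2, 3, 0, 1, 2, 0, 1, 5, 4, 3, 0, 1, 2, 0, 1, 5, 0, 3],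
    [1, 5, 3, 4, 2, 3, 1, 0, 2, 1, 5, 3, 4, 2, 3, 1, 2, 0, 1, 1],
    [3, 1, 2, 0, 1, 5, 0, 1, 2, 0, 3, 1, 0, 2, 1, 5, 4, 3, 2, 0],
    [1, 0, 1, 5, 2, 3, 1, 0, 2, 1, 5, 4, 0, 3, 1, 0, 2, 1, 5, 3, 4, 3, 2, 0, 1, 0]]

/-- a conjugator at `3` -/
def conj3_0 : C6 := ⟨⟨25, 23, 35, 59, 3, 62⟩, ⟨217019414690792448, 72903135659819521, 846632560100356, 72062005036516096, 144961812096548868, 216173890282586372, 288514054446842883, 144682553306186756⟩⟩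

/-- a conjugator at `3` -/
def conj3_1 : C6 := ⟨⟨56, 24, 48, 39, 62, 3⟩, ⟨216735736412504835, 145243291301184004, 846628265263361, 72060901162877700, 217020505629130755, 217303097247269889, 216177197373784068, 288230380446875652⟩⟩

/-- certificate at `3` -/
def cert3 : Cert C6 where
  n := 4
  σ := [⟨⟨26, 25, 61, 19, 50, 32⟩, ⟨288512963541992449, 1130302282138371, 289077004467241728, 145244395107582468, 144962915835838467, 289074818295464194, 1127012303437828, 72061996429934596⟩⟩,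
    ⟨⟨2, 33, 45, 30, 38, 3⟩, ⟨72905334683074819, 288233674703569409, 217019410362138627, 144398862092862212, 144118490905969409, 848835878585347, 289356289010696194, 144401069689208833⟩⟩,
    ⟨⟨46, 17, 15, 59, 61, 10⟩, ⟨144678142374707971, 144396671693095425, 72341272349770243, 73183498290201347, 1116691629060, 566265718571010, 72339081949872128, 72905334683009283⟩⟩,
    ⟨⟨36, 1, 53, 6, 10, 55⟩, ⟨289074814017077506, 3302897026048, 565161878487300, 72343475718455552, 288233674736993026, 72620556909937408, 289077017335300354, 144119590484509696⟩⟩]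
  rules := [([0, 0, 0], []),
    ([1, 1, 1], []),
    ([2, 2, 2], []),
    ([3, 3, 3], []),
    ([1, 0], [0, 1]),
    ([2, 0], [0, 2]),
    ([3, 0], [0, 1, 2, 3]),
    ([2, 1], [1, 2]),
    ([3, 1], [1, 2, 2, 3]),
    ([3, 2], [2, 3])]
  conjs := [(conj3_0, [0], [0, 0, 1, 1, 2, 2]),
    (conj3_0, [1], [1, 1, 2]),
    (conj3_0, [2], [2, 2]),
    (conj3_0, [3], [1, 3]),
    (conj3_1, [0], [0]),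
    (conj3_1, [1], [1, 1]),
    (conj3_1, [2], [2]),
    (conj3_1, [3], [1, 1, 2, 2, 3, 3])]
  rows := [(.ovl [3] 0 [], [0, 1, 1, 0, 0, 0, 0, 0]),
    (.ovl [3] 1 [], [0, 0, 2, 0, 0, 0, 0, 0, 0]),
    (.ovl [3] 4 [], [0, 0, 0, 0, 0, 2, 0, 1, 0]),
    (.ovl [3] 5 [], [0, 0, 0, 0, 0, 0, 0, 1, 0, 0]),
    (.cnj 0 [0, 0, 0] [], [1, 2, 2, 0, 0, 0, 0, 0, 0, 0, 0]),
    (.cnj 0 [3, 3, 3] [], [0, 1, 2, 0, 0, 0, 0, 2, 0, 2, 0, 0, 0, 0]),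
    (.cnj 4 [7, 7, 7] [], [0, 2, 0, 1, 0, 0, 0, 1, 0, 1, 0, 0, 0, 0, 0, 0, 0, 0]),
    (.cnj 4 [5, 4] [4, 5], [0, 0, 0, 0, 1, 0, 0, 0, 0, 0, 0, 0, 0, 0, 0, 0])]
  lam := [[], [0, 0, 0, 0, 0, 0, 1, 0, 1], [0, 0, 0, 0, 0, 0, 0, 0, 2], []]
  combos := [[(0, 2), (4, 2)],
    [(0, 2), (1, 2)],
    [(1, 1)],
    [(1, 1), (5, 2), (6, 2)],
    [(7, 2)],
    [(2, 1), (3, 2)],
    [],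
    [(3, 2)],
    [],
    [(0, 2), (1, 1), (3, 1), (5, 1)]]

end CfsgLib.KnownB.Sp62
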