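import Cfsg.Agent.Lib.KnownB.Sz8.M8
import Cfsg.Agent.Lib.KnownB.Sp62.Chain
import Mathlib.LinearAlgebra.SymplecticGroup

/-!
Codes for pairs of a symplectic `6 × 6` matrix modulo `2` and an `8 × 8` matrix modulo `5`.
-/

set_option autoImplicit false

namespace CfsgLib.KnownB.Sp62

open Matrix CfsgLib.KnownB.Sz8

/-- the six indices -/
abbrev I : Type := Fin 3 ⊕ Fin 3

/-- position of an index -/
def idx : I → ℕ
  | Sum.inl i => i
  | Sum.inr i => i + 3

theorem idx_lt (i : I) : idx i < 6 := by rcases i with i | i <;> simp only [idx] <;> omega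

theorem exists_idx : ∀ n < 6, ∃ i : I, idx i = n := by decide

/-- a bit -/
def bit (v n : ℕ) : ZMod 2 := if v.testBit n then 1 else 0

/-- the vector of a number -/
def dv (v : ℕ) : I → ZMod 2 := fun i => bit v (idx i)

theorem dv_surjective : ∀ w : I → ZMod 2, ∃ v < 64, dv v = w := by decide +kernel

theorem dv_inj {v w : ℕ} : dv v = dv w ↔ v % 64 = w % 64 := by
  constructor
  · intro h
    refine Nat.eq_of_testBit_eq fun n => ?_
    rw [show (64 : ℕ) = 2 ^ 6 from rfl, Nat.testBit_mod_two_pow, Nat.testBit_mod_two_pow]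
    by_cases hn : n < 6
    · obtain ⟨i, rfl⟩ := exists_idx n hn
      have e := congrFun h i
      simp only [dv, bit] at e
      cases hv : v.testBit (idx i) <;> cases hw : w.testBit (idx i) <;> simp_all
    · simp [hn]
  · intro h
    funext i
    have e := congrArg (fun x => Nat.testBit x (idx i)) h
    simp only [show (64 : ℕ) = 2 ^ 6 from rfl, Nat.testBit_mod_two_pow, idx_lt i, decide_true,
      Bool.true_and] at e
    simp only [dv, bit, e]

/-- six columns -/
structure M6 where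
  c0 : ℕ
  c1 : ℕ
  c2 : ℕ
  c3 : ℕ
  c4 : ℕ
  c5 : ℕ

/-- a column if a bit is set -/
def sel (v k c : ℕ) : ℕ := cond (v.testBit k) c 0

/-- matrix times vector -/
def app6 (a : M6) (v : ℕ) : ℕ :=
  sel v 0 a.c0 ^^^ (sel v 1 a.c1 ^^^ (sel v 2 a.c2 ^^^
    (sel v 3 a.c3 ^^^ (sel v 4 a.c4 ^^^ sel v 5 a.c5))))

/-- product -/
def mul6 (a b : M6) : M6 :=
  ⟨app6 a b.c0, app6 a b.c1, app6 a b.c2, app6 a b.c3, app6 a b.c4, app6 a b.c5⟩

/-- identity -/
def one6 : M6 := ⟨1, 2, 4, 8, 16, 32⟩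

/-- equality -/
def eq6 (a b : M6) : Bool :=
  Nat.beq (a.c0 % 64) (b.c0 % 64) && Nat.beq (a.c1 % 64) (b.c1 % 64) &&
    Nat.beq (a.c2 % 64) (b.c2 % 64) && Nat.beq (a.c3 % 64) (b.c3 % 64) &&
    Nat.beq (a.c4 % 64) (b.c4 % 64) && Nat.beq (a.c5 % 64) (b.c5 % 64)

/-- a column -/
def col6 (a : M6) : I → ℕ
  | Sum.inl i => ![a.c0, a.c1, a.c2] i
  | Sum.inr i => ![a.c3, a.c4, a.c5] i

/-- the matrix -/
def dec6 (a : M6) : Matrix I I (ZMod 2) := of fun i j => bit (col6 a j) (idx i)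

theorem bit_xor (x y n : ℕ) : bit (x ^^^ y) n = bit x n + bit y n := by
  simp only [bit, Nat.testBit_xor]
  cases x.testBit n <;> cases y.testBit n <;> decide

theorem bit_sel (v k c n : ℕ) : bit (sel v k c) n = bit c n * bit v k := by
  cases h : v.testBit k <;> simp [bit, sel, h]

theorem dec6_mulVec (a : M6) (v : ℕ) : dec6 a *ᵥ dv v = dv (app6 a v) := by
  funext i
  simp only [dv, app6, bit_xor, bit_sel, mulVec, dotProduct, Fintype.sum_sum_type, Fin.sum_univ_three,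
    dec6, of_apply, col6, idx]
  simp only [cons_val_zero, cons_val_one, cons_val, Fin.isValue]
  norm_num
  ring

theorem dec6_mul (a b : M6) : dec6 (mul6 a b) = dec6 a * dec6 b := by
  ext i j
  have h : (dec6 a * dec6 b) i j = (dec6 a *ᵥ dv (col6 b j)) i := rfl
  rw [h, dec6_mulVec]
  rcases j with j | j <;> fin_cases j <;> rfl

theorem dec6_one : dec6 one6 = 1 := by decide +kernel

theorem eq6_iff {a b : M6} : eq6 a b = true ↔ dec6 a = dec6 b := by
  constructor
  · intro h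
    simp only [eq6, Bool.and_eq_true, Nat.beq_eq, ← dv_inj, and_assoc] at h
    obtain ⟨h0, h1, h2, h3, h4, h5⟩ := h
    ext i j
    rcases j with j | j <;> fin_cases j
    · exact congrFun h0 i
    · exact congrFun h1 i
    · exact congrFun h2 i
    · exact congrFun h3 i
    · exact congrFun h4 i
    · exact congrFun h5 i
  · intro h
    have k : ∀ j : I, dv (col6 a j) = dv (col6 b j) := fun j =>
      funext fun i => congrFun (congrFun h i) j
    simp only [eq6, Bool.and_eq_true, Nat.beq_eq, ← dv_inj, and_assoc]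
    exact ⟨k (Sum.inl 0), k (Sum.inl 1), k (Sum.inl 2), k (Sum.inr 0), k (Sum.inr 1), k (Sum.inr 2)⟩

/-- the symplectic group modulo two -/
abbrev Sp2 : Type := ↥(symplecticGroup (Fin 3) (ZMod 2))

/-- the ambient group -/
abbrev Amb : Type := Sp2 × GL (Fin 8) (ZMod 5)

/-- a pair -/
structure C6 where
  a : M6
  b : M8

/-- product -/
def mulC (x y : C6) : C6 := ⟨mul6 x.a y.a, mul8 x.b y.b⟩

/-- identity -/
def oneC : C6 := ⟨one6, one8⟩

/-- equality -/
def eqC (x y : C6) : Bool := eq6 x.a y.a && eq8 x.b y.b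

/-- `g` has code `x` -/
def RepA (g : Amb) (x : C6) : Prop :=
  (g.1 : Matrix I I (ZMod 2)) = dec6 x.a ∧
    (g.2 : Matrix (Fin 8) (Fin 8) (ZMod 5)) = dec8 x.b

theorem RepA.mul {g h : Amb} {x y : C6} (hg : RepA g x) (hh : RepA h y) : RepA (g * h) (mulC x y) := by
  refine ⟨?_, ?_⟩
  · rw [mulC, dec6_mul, ← hg.1, ← hh.1]; rfl
  · rw [mulC, dec8_mul, ← hg.2, ← hh.2]; rfl

theorem repA_one : RepA 1 oneC := ⟨dec6_one.symm, dec8_one.symm⟩

theorem eqC_iff {g h : Amb} {x y : C6} (hg : RepA g x) (hh : RepA h y) : eqC x y = true ↔ g = h := by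
  rw [eqC, Bool.and_eq_true, eq6_iff, eq8_iff, ← hg.1, ← hg.2, ← hh.1, ← hh.2]
  constructor
  · rintro ⟨h1, h2⟩
    exact Prod.ext (Subtype.ext h1) (Units.ext h2)
  · rintro rfl
    exact ⟨rfl, rfl⟩

theorem RepA.of_eqC {g : Amb} {x y : C6} (hg : RepA g x) (h : eqC x y = true) : RepA g y := by
  simp only [eqC, Bool.and_eq_true, eq6_iff, eq8_iff] at h
  exact ⟨hg.1.trans h.1, hg.2.trans h.2⟩

/-- mutually inverse, with a symplectic first part -/
def genOK (q : C6 × C6) : Bool :=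
  eqC (mulC q.1 q.2) oneC && eqC (mulC q.2 q.1) oneC &&
    decide (dec6 q.1.a * J (Fin 3) (ZMod 2) * (dec6 q.1.a)ᵀ = J (Fin 3) (ZMod 2))

theorem exists_amb {q : C6 × C6} (h : genOK q = true) : ∃ g : Amb, RepA g q.1 := by
  simp only [genOK, eqC, Bool.and_eq_true, decide_eq_true_eq, eq8_iff, mulC, oneC, dec8_mul, dec8_one] at h
  exact ⟨(⟨dec6 q.1.a, h.2⟩, ⟨_, _, h.1.1.2, h.1.2.2⟩), rfl, rfl⟩

end CfsgLib.KnownB.Sp62
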