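import Cfsg.Agent.Lib.KnownB.Sp62.Data

/-!
The double cover of `Sp₆(2)` inside `Sp₆(2) × GL₈(5)`: it maps onto `Sp₆(2)` with kernel of order two.
-/

set_option autoImplicit false
set_option maxRecDepth 100000
set_option Elab.async false
set_option maxHeartbeats 2000000

namespace CfsgLib.KnownB.Sp62

open Matrix CfsgLib.KnownB.Sz8 CfsgLib.KnownB.Mult

/-- the double cover -/
def Cover : Subgroup Amb := Subgroup.closure {g | ∃ q ∈ genData, RepA g q.1}

/-- the generating codes -/
def genC (k : ℕ) : C6 := (genData.getD k (oneC, oneC)).1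

/-- a word in the generators -/
def evT : List ℕ → C6
  | [] => oneC
  | k :: w => mulC (genC k) (evT w)

theorem genData_ok : genData.all genOK = true := by decide +kernel

theorem exists_genC (k : ℕ) : ∃ g : Cover, RepA (g : Amb) (genC k) := by
  rcases lt_or_ge k genData.length with h | h
  · obtain ⟨g, hg⟩ := exists_amb (List.all_eq_true.1 genData_ok _ (List.getElem_mem h))
    rw [genC, List.getD_eq_getElem _ _ h]
    exact ⟨⟨g, Subgroup.subset_closure ⟨_, List.getElem_mem h, hg⟩⟩, hg⟩
  · rw [genC, List.getD_eq_default _ _ h]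
    exact ⟨1, repA_one⟩

theorem exists_evT : ∀ w, ∃ g : Cover, RepA (g : Amb) (evT w)
  | [] => ⟨1, repA_one⟩
  | k :: w => by
    obtain ⟨a, ha⟩ := exists_genC k
    obtain ⟨b, hb⟩ := exists_evT w
    exact ⟨a * b, ha.mul hb⟩

/-- codes with the membership test given by a list of words -/
def code (ws : List (List ℕ)) : Code Cover C6 where
  rep g x := RepA (g : Amb) x
  mul := mulC
  one := oneC
  eqc := eqC
  okc x := ws.any fun w => eqC (evT w) x
  rep_mul := RepA.mul
  rep_one := repA_one
  eq_iff h h' := (eqC_iff h h').trans Subtype.coe_injective.eq_iff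
  exists_rep h := by
    obtain ⟨w, -, hw⟩ := List.any_eq_true.1 h
    obtain ⟨g, hg⟩ := exists_evT w
    exact ⟨g, hg.of_eqC hw⟩

theorem respects : Respects (code []) := fun _ _ _ h e => RepA.of_eqC h e

/-- image of a coordinate vector -/
def pt (b : ℕ) (x : C6) : ℕ := app6 x.a (2 ^ b) % 64

/-- the form -/
def bfv (u w : I → ZMod 2) : ZMod 2 := u ⬝ᵥ (J (Fin 3) (ZMod 2) *ᵥ w)

/-- fixing coordinate vectors, reaching all admissible ones, uniqueness of the trivial representative -/
def colsAll : List ℕ → List (Lvl C6) → Bool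
  | pre, [] => ([negC] : List C6).all fun g => pre.all fun j => Nat.beq (pt j g) (2 ^ j % 64)
  | pre, L :: r =>
    (L.gens.all fun g => pre.all fun j => Nat.beq (pt j g) (2 ^ j % 64)) &&
      (L.trans.all fun t => !Nat.beq (pt L.b t.1.2) (2 ^ L.b % 64) || eqC t.1.2 oneC) &&
      ((List.range 64).all fun v => Nat.beq v 0 ||
        !(pre.all fun j => decide (bfv (dv v) (dv (2 ^ j)) = bfv (dv (2 ^ L.b)) (dv (2 ^ j)))) ||
          L.trans.any fun t => Nat.beq (pt L.b t.1.2) v) &&
      Nat.blt L.b 6 && colsAll (L.b :: pre) r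

theorem chain_ok : chainOK (code []) pt [oneC, negC] [negC] levels = true := by decide +kernel

theorem cols_ok : colsAll [] levels = true := by decide +kernel

theorem words_ok : (lvl0.gens.all fun g =>
    ([[0], [1], [2], [3], [4], [5], negWord] : List (List ℕ)).any fun w => eqC (evT w) g) = true ∧
    (genData.all fun q => lvl0.gens.any fun g => eqC g q.1) = true := by
  refine ⟨?_, ?_⟩ <;> decide +kernel

theorem bases_ok : ∀ n < 6, n ∈ levels.map Lvl.b := by decide +kernel

theorem neg_ok : eqC (evT negWord) negC = true ∧ eqC (mulC negC negC) oneC = true ∧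
    eqC negC oneC = false ∧ eq6 negC.a one6 = true ∧
    (List.range 6).all (fun k => eqC (mulC negC (genC k)) (mulC (genC k) negC)) = true ∧
    eqC (mulC (evT commPair.1) (evT commPair.2))
      (mulC negC (mulC (evT commPair.2) (evT commPair.1))) = true ∧ genData.length = 6 := by
  refine ⟨?_, ?_, ?_, ?_, ?_, ?_, ?_⟩ <;> decide +kernel

/-- the action of the first component -/
def moves (g : Cover) (u : I → ZMod 2) : I → ZMod 2 := ((g : Amb).1 : Matrix I I (ZMod 2)) *ᵥ u

theorem moves_mul (g h : Cover) (u : I → ZMod 2) : moves (g * h) u = moves g (moves h u) :=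
  (mulVec_mulVec _ _ _).symm

theorem moves_rep {g : Cover} {x : C6} (h : RepA (g : Amb) x) (b : ℕ) :
    moves g (dv (2 ^ b)) = dv (pt b x) := by
  rw [moves, h.1, dec6_mulVec, pt]
  exact dv_inj.2 (Nat.mod_mod _ _).symm

theorem fix_of_check {l : List C6} {b : ℕ} (h : ∀ g ∈ l, pt b g = 2 ^ b % 64) :
    ∀ a ∈ hof (code []) l, moves a (dv (2 ^ b)) = dv (2 ^ b) := by
  intro a ha
  induction ha using Subgroup.closure_induction with
  | mem a ha =>
    obtain ⟨x, hx, hr⟩ := ha
    rw [moves_rep hr, h x hx]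
    exact dv_inj.2 (Nat.mod_mod _ _)
  | one => exact one_mulVec _
  | mul x y _ _ hx hy => rw [moves_mul, hy, hx]
  | inv x _ hx =>
    conv_lhs => rw [← hx, ← moves_mul, inv_mul_cancel]
    exact one_mulVec _

theorem cols_fix : ∀ (Ls : List (Lvl C6)) (pre : List ℕ), colsAll pre Ls = true →
    ∀ j ∈ pre, ∀ a ∈ hof (code []) (ngens [negC] Ls), moves a (dv (2 ^ j)) = dv (2 ^ j)
  | [], pre, h, j, hj => by
    simp only [colsAll, List.all_eq_true, Nat.beq_eq] at h
    exact fix_of_check fun g hg => h g hg j hj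
  | L :: r, pre, h, j, hj => by
    simp only [colsAll, Bool.and_eq_true, List.all_eq_true, Nat.beq_eq] at h
    exact fix_of_check fun g hg => h.1.1.1.1 g hg j hj

theorem single_dv : ∀ i : I, dv (2 ^ idx i) = Pi.single i 1 := by decide +kernel

theorem sp_eq_one {g : Sp2} (h : ∀ n < 6, (g : Matrix I I (ZMod 2)) *ᵥ dv (2 ^ n) = dv (2 ^ n)) :
    g = 1 := by
  refine Subtype.ext (Matrix.ext fun i j => ?_)
  have e := h (idx j) (idx_lt j)
  rw [single_dv, mulVec_single_one] at e
  have := congrFun e i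
  simp only [col_apply] at this
  rw [this]
  show _ = (1 : Matrix I I (ZMod 2)) i j
  rw [Matrix.one_apply, Pi.single_apply]

theorem bfv_invariant (g : Sp2) (u w : I → ZMod 2) :
    bfv ((g : Matrix I I (ZMod 2)) *ᵥ u) ((g : Matrix I I (ZMod 2)) *ᵥ w) = bfv u w := by
  have hg := SymplecticGroup.mem_iff'.1 g.2
  rw [bfv, bfv]
  conv_rhs => rw [← hg]
  rw [← mulVec_mulVec, ← mulVec_mulVec, dotProduct_mulVec u, vecMul_transpose]

theorem peel : ∀ (Ls : List (Lvl C6)) (pre : List ℕ),
    chainOK (code []) pt [oneC, negC] [negC] Ls = true → Has (code []) (ngens [negC] Ls) →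
    colsAll pre Ls = true → (∀ n < 6, n ∈ pre ∨ n ∈ Ls.map Lvl.b) →
    ∀ g : Sp2, (∀ j ∈ pre, (g : Matrix I I (ZMod 2)) *ᵥ dv (2 ^ j) = dv (2 ^ j)) →
      ∃ a ∈ hof (code []) (ngens [negC] Ls), (a : Amb).1 = g
  | [], pre, _, _, _, hb, g, hg => by
    refine ⟨1, one_mem _, ?_⟩
    rw [sp_eq_one fun n hn => hg n (by simpa using hb n hn)]
    rfl
  | L :: r, pre, hc, hh, hcol, hb, g, hg => by
    obtain ⟨hhas, hle⟩ := has_next respects hc hh
    have hc0 := hc
    have hcol0 := hcol
    simp only [colsAll, Bool.and_eq_true, List.all_eq_true, List.any_eq_true, Bool.or_eq_true,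
      Bool.not_eq_true', List.mem_range] at hcol
    obtain ⟨⟨⟨⟨-, -⟩, hreach⟩, hlt⟩, hrest⟩ := hcol
    rw [Nat.blt_eq] at hlt
    obtain ⟨v, hv, hve⟩ := dv_surjective ((g : Matrix I I (ZMod 2)) *ᵥ dv (2 ^ L.b))
    have hpre : (pre.all fun j =>
        decide (bfv (dv v) (dv (2 ^ j)) = bfv (dv (2 ^ L.b)) (dv (2 ^ j)))) = true := by
      rw [List.all_eq_true]
      intro j hj
      rw [decide_eq_true_eq, hve]
      conv_lhs => rw [← hg j hj]
      exact bfv_invariant g _ _
    have hbl : L.b < 6 → dv v ≠ dv 0 := by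
      intro hlt h0
      have e : ((g⁻¹ : Sp2) : Matrix I I (ZMod 2)) *ᵥ dv v = dv (2 ^ L.b) := by
        rw [hve, mulVec_mulVec]
        have := congrArg Subtype.val (inv_mul_cancel g)
        rw [Submonoid.coe_mul] at this
        rw [this, Submonoid.coe_one, one_mulVec]
      rw [h0, show dv 0 = 0 from funext fun i => by simp [dv, bit], mulVec_zero] at e
      obtain ⟨i, hi⟩ := exists_idx L.b hlt
      have := congrFun e i
      rw [← hi, single_dv] at this
      simp at this
    obtain ⟨t, ht, hpt⟩ : ∃ t ∈ L.trans, pt L.b t.1.2 = v := by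
      rcases hreach v hv with (h | h) | ⟨t, ht, hpt⟩
      · rw [Nat.beq_eq] at h; exact absurd (by rw [h]) (hbl hlt)
      · rw [hpre] at h; exact absurd h Bool.noConfusion
      · exact ⟨t, ht, Nat.eq_of_beq_eq_true hpt⟩
    simp only [chainOK, Bool.and_eq_true, List.all_eq_true] at hc0
    obtain ⟨u, -, hur⟩ := exists_evL (code []) hh t.1.1
    have hu : RepA (u : Amb) t.1.2 := respects _ _ _ hur (hc0.1.1.1.1 t ht).1.1
    have huH := mem_hof_of_word (code []) hh hu (hc0.1.1.1.1 t ht).1.1
    have hug : moves u (dv (2 ^ L.b)) = (g : Matrix I I (ZMod 2)) *ᵥ dv (2 ^ L.b) := by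
      rw [moves_rep hu, hpt, hve]
    obtain ⟨a, ha, hag⟩ := peel r (L.b :: pre) hc0.2 hhas hrest
      (fun n hn => by rcases hb n hn with h | h <;> simp_all [or_assoc, or_comm, or_left_comm])
      (((u⁻¹ : Cover) : Amb).1 * g) (by
        intro j hj
        rw [Submonoid.coe_mul, ← mulVec_mulVec]
        rcases List.mem_cons.1 hj with rfl | hj
        · rw [← hug]
          show moves u⁻¹ (moves u _) = _
          rw [← moves_mul, inv_mul_cancel]
          exact one_mulVec _
        · rw [hg j hj]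
          exact cols_fix (L :: r) pre hcol0 j hj _ (inv_mem huH))
    refine ⟨u * a, mul_mem huH (hle ha), ?_⟩
    show (u : Amb).1 * (a : Amb).1 = g
    rw [hag]
    show (u : Amb).1 * ((u : Amb).1⁻¹ * g) = g
    rw [mul_inv_cancel_left]

theorem kernel_form : ∀ (Ls : List (Lvl C6)) (pre : List ℕ),
    chainOK (code []) pt [oneC, negC] [negC] Ls = true → Has (code []) (ngens [negC] Ls) →
    colsAll pre Ls = true →
    ∀ a ∈ hof (code []) (ngens [negC] Ls), (a : Amb).1 = 1 →
      RepA (a : Amb) oneC ∨ RepA (a : Amb) negC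
  | [], pre, hc, hh, _, a, ha, _ => by
    obtain ⟨f, hf, hr⟩ := (chain_spec respects [] hc hh).2 a ha
    simp only [List.mem_cons, List.not_mem_nil, or_false] at hf
    rcases hf with rfl | rfl
    · exact Or.inl hr
    · exact Or.inr hr
  | L :: r, pre, hc, hh, hcol, a, ha, h1 => by
    obtain ⟨hhas, -⟩ := has_next respects hc hh
    obtain ⟨t, ht, u, h, hu, hh', rfl⟩ := (chain_spec respects (L :: r) hc hh).2 a ha
    simp only [chainOK, Bool.and_eq_true] at hc
    simp only [colsAll, Bool.and_eq_true, List.all_eq_true, Bool.or_eq_true, Bool.not_eq_true'] at hcol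
    have hfix := cols_fix r _ hcol.2 L.b List.mem_cons_self h hh'
    have e : moves (u * h) (dv (2 ^ L.b)) = dv (2 ^ L.b) := by
      rw [moves, h1]; exact one_mulVec _
    rw [moves_mul, hfix, moves_rep hu, dv_inj, pt, Nat.mod_mod] at e
    have hu1 : u = 1 := by
      rcases hcol.1.1.1.2 t ht with hb | hb
      · rw [← Bool.not_eq_true, Nat.beq_eq] at hb
        exact absurd e hb
      · exact Subtype.ext ((eqC_iff hu repA_one).1 hb)
    subst hu1
    rw [one_mul] at h1 ⊢
    exact kernel_form r _ hc.2 hhas hcol.2 h hh' h1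

end CfsgLib.KnownB.Sp62
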