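import Cfsg.Agent.Lib.KnownB.Sp62.Certs
import Cfsg.Agent.Lib.KnownB.Mult.Reduce
import Cfsg.Agent.Lib.Schur.Lift
import Cfsg.Agent.Lib.Classical.PSpFourThree
import Cfsg.Agent.S0245

/-!
The Schur multiplier of `Sp₆(2)` has order two.
-/

set_option autoImplicit false
set_option maxRecDepth 100000

namespace CfsgLib.KnownB.Sp62

open Matrix CfsgLib.KnownB.Sz8 CfsgLib.KnownB.Mult
open scoped commutatorElement

theorem has_top : Has (code []) (ngens [negC] levels) := by
  intro x hx
  obtain ⟨w, -, hw⟩ := List.any_eq_true.1 (List.all_eq_true.1 words_ok.1 x hx)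
  obtain ⟨g, hg⟩ := exists_evT w
  exact ⟨g, hg.of_eqC hw⟩

theorem hof_top : ∀ g : Cover, g ∈ hof (code []) (ngens [negC] levels) := by
  have hgen : ∀ q ∈ genData, ∃ y ∈ ngens [negC] levels, eqC y q.1 = true := fun q hq =>
    List.any_eq_true.1 (List.all_eq_true.1 words_ok.2 q hq)
  have hhas := has_top
  revert hgen hhas
  generalize ngens [negC] levels = l
  intro hgen hhas
  rintro ⟨g, hg⟩
  have hle : Cover ≤ (hof (code []) l).map Cover.subtype := by
    refine (Subgroup.closure_le _).2 ?_
    rintro x ⟨q, hq, hr⟩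
    obtain ⟨y, hy, he⟩ := hgen q hq
    obtain ⟨b, hb⟩ := hhas y hy
    exact ⟨b, Subgroup.subset_closure ⟨y, hy, hb⟩, (eqC_iff hb hr).1 he⟩
  obtain ⟨b, hb, e⟩ := hle hg
  have : b = ⟨g, hg⟩ := Subtype.ext e
  rwa [← this]

/-- the projection -/
def proj : Cover →* Sp2 := (MonoidHom.fst _ _).comp Cover.subtype

theorem proj_surjective : Function.Surjective proj := by
  intro g
  obtain ⟨a, -, ha⟩ := peel levels [] chain_ok has_top cols_ok (fun n hn => Or.inr (bases_ok n hn)) g
    (fun j hj => absurd hj List.not_mem_nil)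
  exact ⟨a, ha⟩

theorem exists_neg : ∃ z : Cover, RepA (z : Amb) negC := by
  obtain ⟨g, hg⟩ := exists_evT negWord
  exact ⟨g, hg.of_eqC neg_ok.1⟩

/-- the sign -/
noncomputable def zel : Cover := exists_neg.choose

theorem rep_zel : RepA (zel : Amb) negC := exists_neg.choose_spec

theorem eq_of_check {g h : Cover} {x y : C6} (hg : RepA (g : Amb) x) (hh : RepA (h : Amb) y)
    (e : eqC x y = true) : g = h :=
  Subtype.ext ((eqC_iff hg hh).1 e)

theorem zel_mem_ker : zel ∈ proj.ker := by
  rw [MonoidHom.mem_ker]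
  refine Subtype.ext ?_
  show ((zel : Amb).1 : Matrix I I (ZMod 2)) = 1
  rw [rep_zel.1, eq6_iff.1 neg_ok.2.2.2.1, dec6_one]

theorem ker_cases {g : Cover} (hg : g ∈ proj.ker) : g = 1 ∨ g = zel := by
  rcases kernel_form levels [] chain_ok has_top cols_ok g (hof_top g) hg with h | h
  · exact Or.inl (eq_of_check h repA_one (by decide +kernel))
  · exact Or.inr (eq_of_check h rep_zel (by decide +kernel))

theorem natCard_ker : Nat.card proj.ker = 2 := by
  have hne : (⟨zel, zel_mem_ker⟩ : proj.ker) ≠ 1 := by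
    intro h
    have e : zel = 1 := congrArg Subtype.val h
    have := (eqC_iff rep_zel repA_one).2 (congrArg Subtype.val e)
    rw [neg_ok.2.2.1] at this
    exact Bool.false_ne_true this
  have huniv : (Set.univ : Set proj.ker) = {1, ⟨zel, zel_mem_ker⟩} := by
    ext ⟨x, hx⟩
    simp only [Set.mem_univ, Set.mem_insert_iff, Set.mem_singleton_iff, true_iff]
    rcases ker_cases hx with rfl | rfl
    · exact Or.inl rfl
    · exact Or.inr rfl
  rw [← Set.ncard_univ, huniv, Set.ncard_pair hne.symm]

theorem natCard_cover : Nat.card Cover = 2903040 := by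
  have h := proj.ker.card_mul_index
  rw [Subgroup.index_ker, MonoidHom.range_eq_top.2 proj_surjective,
    Nat.card_congr Subgroup.topEquiv.toEquiv, natCard_ker,
    Cfsg.Agent.S0245.result (F := ZMod 2) (ZMod.card 2) 3] at h
  rw [← h]
  norm_num [Finset.prod_range_succ]

theorem zel_central : zel ∈ Subgroup.center Cover := by
  rw [Subgroup.mem_center_iff]
  rintro ⟨g, hg⟩
  refine Subtype.ext ?_
  show g * (zel : Amb) = (zel : Amb) * g
  induction hg using Subgroup.closure_induction with
  | mem x hx =>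
    obtain ⟨q, hq, hr⟩ := hx
    obtain ⟨k, hk, rfl⟩ := List.getElem_of_mem hq
    have hk6 : k < 6 := neg_ok.2.2.2.2.2.2 ▸ hk
    have h := List.all_eq_true.1 neg_ok.2.2.2.2.1 k (List.mem_range.2 hk6)
    rw [genC, List.getD_eq_getElem _ _ hk] at h
    exact ((eqC_iff (rep_zel.mul hr) (hr.mul rep_zel)).1 h).symm
  | one => rw [one_mul, mul_one]
  | mul x y _ _ hx hy => exact Commute.mul_left hx hy
  | inv x _ hx => exact Commute.inv_left hx

theorem zel_commutator : zel ∈ commutator Cover := by
  obtain ⟨a, ha⟩ := exists_evT commPair.1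
  obtain ⟨b, hb⟩ := exists_evT commPair.2
  have e := eq_of_check (g := a * b) (h := zel * (b * a)) (ha.mul hb) (rep_zel.mul (hb.mul ha))
    neg_ok.2.2.2.2.2.1
  have e' : zel = ⁅a, b⁆ := by
    rw [commutatorElement_def, e]
    group
  rw [e']
  exact Subgroup.commutator_mem_commutator (Subgroup.mem_top _) (Subgroup.mem_top _)

theorem isStem_proj : Cfsg.IsStemExtension proj := by
  refine ⟨proj_surjective, fun g hg => ?_, fun g hg => ?_⟩
  · rcases ker_cases hg with rfl | rfl
    · exact one_mem _
    · exact zel_central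
  · rcases ker_cases hg with rfl | rfl
    · exact one_mem _
    · exact zel_commutator

theorem trivial_multiplier : Cfsg.HasCyclicSchurMultiplier Cover 1 := by
  haveI : Finite Cover := Nat.finite_of_card_ne_zero (by rw [natCard_cover]; norm_num)
  refine hasTrivialMultiplier_of_primeCond fun p hp => ?_
  by_cases h2 : p = 2
  · subst h2
    exact Cert.primeCond cert2_valid (m := 2835)
      (natCard_cover.trans (by norm_num [cert2])) (by norm_num)
  by_cases h3 : p = 3
  · subst h3
    exact Cert.primeCond cert3_valid (m := 35840)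
      (natCard_cover.trans (by norm_num [cert3])) (by norm_num)
  refine primeCond_of_cyclic default (isCyclic_sylow (p := p) ?_ default)
  intro hd
  rw [natCard_cover, show (2903040 : ℕ) = 2 ^ 10 * 3 ^ 4 * 35 by norm_num] at hd
  have hc : ∀ q k : ℕ, q.Prime → p ≠ q → Nat.Coprime (p ^ 2) (q ^ k) := fun q k hq hne =>
    Nat.Coprime.pow 2 k ((Nat.coprime_primes hp.out hq).2 hne)
  have h35 : p ^ 2 ∣ 35 :=
    ((hc 2 10 Nat.prime_two h2).mul_right (hc 3 4 Nat.prime_three h3)).dvd_of_dvd_mul_left hd
  have hle : p ^ 2 ≤ 35 := Nat.le_of_dvd (by norm_num) h35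
  have h2le := hp.out.two_le
  have : p < 6 := by nlinarith
  interval_cases p
  all_goals
    first
      | (norm_num at h35; done)
      | (have := hp.out; norm_num at this; done)

theorem center_trivial : Subgroup.center Sp2 = ⊥ := by
  refine (Subgroup.eq_bot_iff_forall _).2 fun g hg => ?_
  have key : ∀ i : Fin 3, ∀ s : Bool,
      let a : I := bif s then Sum.inl i else Sum.inr i
      let b : I := bif s then Sum.inr i else Sum.inl i
      (1 + Matrix.single a b (1 : ZMod 2)) ∈ symplecticGroup (Fin 3) (ZMod 2) := by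
    intro i s
    rw [SymplecticGroup.mem_iff]
    revert i s
    decide +kernel
  have hd : ∀ i : Fin 3, ∀ s : Bool, ∀ r : I,
      let a : I := bif s then Sum.inl i else Sum.inr i
      let b : I := bif s then Sum.inr i else Sum.inl i
      r ≠ a → (g : Matrix I I (ZMod 2)) r a = 0 := by
    intro i s r a b hr
    have h := congrArg Subtype.val (Subgroup.mem_center_iff.1 hg ⟨_, key i s⟩)
    simp only [Submonoid.coe_mul, add_mul, mul_add, one_mul, mul_one, add_right_inj] at h
    have e := congrFun (congrFun h r) b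
    rw [Matrix.single_mul_apply_of_ne _ _ _ _ _ hr, Matrix.mul_single_apply_same, mul_one] at e
    exact e.symm
  have hdiag : ∀ r c : I, r ≠ c → (g : Matrix I I (ZMod 2)) r c = 0 := by
    intro r c hrc
    rcases c with c | c
    · exact hd c true r hrc
    · exact hd c false r hrc
  refine Subtype.ext (Matrix.ext fun r c => ?_)
  by_cases hrc : r = c
  · subst hrc
    show (g : Matrix I I (ZMod 2)) r r = (1 : Matrix I I (ZMod 2)) r r
    rw [Matrix.one_apply_eq]
    by_contra hne
    have h0 : (g : Matrix I I (ZMod 2)) r r = 0 := by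
      revert hne; generalize (g : Matrix I I (ZMod 2)) r r = x; revert x; decide
    have hinv := congrArg Subtype.val (mul_inv_cancel g)
    rw [Submonoid.coe_mul] at hinv
    have e := congrFun (congrFun hinv r) r
    rw [Matrix.mul_apply, Finset.sum_eq_zero (fun k _ => ?_)] at e
    · rw [Submonoid.coe_one, Matrix.one_apply_eq] at e
      exact zero_ne_one e
    · by_cases hk : r = k
      · subst hk; rw [h0, zero_mul]
      · rw [hdiag r k hk, zero_mul]
  · rw [hdiag r c hrc]
    exact (Matrix.one_apply_ne hrc).symm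

theorem hasCyclicSchurMultiplier {F : Type*} [Field F] [Fintype F] (hF : Fintype.card F = 2) :
    Cfsg.HasCyclicSchurMultiplier (Cfsg.PSp 3 F) 2 := by
  obtain ⟨e⟩ := CfsgLib.Classical.ESix.psp_congr (ZMod.ringEquivOfPrime F Nat.prime_two hF) 3
  let q : Sp2 ≃* Cfsg.PSp 3 F :=
    ((QuotientGroup.quotientBot (G := Sp2)).symm.trans
      (QuotientGroup.quotientMulEquivOfEq center_trivial.symm)).trans e
  let σ : Cover →* Cfsg.PSp 3 F := q.toMonoidHom.comp proj
  have hker : σ.ker = proj.ker := by
    ext x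
    simp [σ, MonoidHom.mem_ker]
  have hs : Cfsg.IsStemExtension σ :=
    ⟨q.surjective.comp proj_surjective, hker ▸ isStem_proj.2.1, hker ▸ isStem_proj.2.2⟩
  haveI : Finite Cover := Nat.finite_of_card_ne_zero (by rw [natCard_cover]; norm_num)
  obtain ⟨e'⟩ := CfsgLib.Schur.mult_equiv_ker_of_trivial σ hs trivial_multiplier
  have : Fact (Nat.Prime 2) := ⟨by norm_num⟩
  exact CfsgLib.Schur.hasSchurMultiplier_iff.2 ⟨(mulEquivOfPrimeCardEq (p := 2)
    (by simp) (hker ▸ natCard_ker)).trans e'.symm⟩

end CfsgLib.KnownB.Sp62
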